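import Groth.Agent.SmoothReg.Scheme
import Groth.Prelude.Def_Curv2
import Mathlib.RingTheory.Kaehler.Basic
import Mathlib.RingTheory.Unramified.LocalRing
import Mathlib.RingTheory.Unramified.Field
import Mathlib.RingTheory.RingHom.StandardSmooth
import Mathlib.RingTheory.Smooth.StandardSmoothCotangent
import Mathlib.RingTheory.Etale.StandardEtale
import Mathlib.RingTheory.Flat.TorsionFree
import Mathlib.RingTheory.Algebraic.MvPolynomial
import Mathlib.RingTheory.Etale.Basic

/-!
# Ramified points of maps of smooth curves with separable residue extension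
-/

set_option autoImplicit false
set_option linter.style.haveILetI false
set_option linter.unusedSectionVars false
set_option backward.isDefEq.respectTransparency false
set_option backward.isDefEq.respectTransparency.types false

universe u

open CategoryTheory CategoryTheory.Limits AlgebraicGeometry TopologicalSpace IsLocalRing

noncomputable section

namespace Groth.Agent.TameResidue

/-- If `κ(x)` is separable over `κ(y)` but not over `k`, the map is unramified at `x`. -/
theorem map_maximalIdeal {k R S : Type u} [Field k] [CommRing R] [CommRing S] [IsLocalRing R] [IsLocalRing S]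
    [Algebra k R] [Algebra k S] [Algebra R S] [IsScalarTower k R S] [IsLocalHom (algebraMap R S)]
    [Algebra.EssFiniteType k S] (g : Ω[S⁄k]) (hg : Submodule.span S {g} = ⊤)
    [Algebra.IsSeparable (ResidueField R) (ResidueField S)]
    (hns : ¬ Algebra.IsSeparable k (ResidueField S)) :
    (maximalIdeal R).map (algebraMap R S) = maximalIdeal S := by
  haveI : Algebra.EssFiniteType R S := Algebra.EssFiniteType.of_comp k R S
  haveI : Algebra.EssFiniteType k (ResidueField S) := Algebra.EssFiniteType.comp k S (ResidueField S)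
  haveI : IsScalarTower k (ResidueField R) (ResidueField S) := IsScalarTower.of_algebraMap_eq fun c => by
    rw [IsScalarTower.algebraMap_apply k R (ResidueField R), IsScalarTower.algebraMap_apply k S (ResidueField S),
      IsScalarTower.algebraMap_apply k R S]
    rfl
  haveI : Algebra.FormallyUnramified (ResidueField R) (ResidueField S) :=
    Algebra.FormallyUnramified.of_isSeparable _ _
  obtain ⟨y, hy⟩ : ∃ y : R, KaehlerDifferential.D k (ResidueField S) (residue S (algebraMap R S y)) ≠ 0 := by
    by_contra hc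
    push Not at hc
    refine hns ?_
    haveI : Algebra.FormallyUnramified k (ResidueField S) := ⟨⟨fun a b => ?_⟩⟩
    · exact Algebra.FormallyUnramified.isSeparable _ _
    have h0 : ∀ z : Ω[ResidueField S⁄k], z = 0 := fun z => by
      obtain ⟨t, rfl⟩ := (KaehlerDifferential.exact_mapBaseChange_map k (ResidueField R) (ResidueField S) z).1
        (Subsingleton.elim _ 0)
      induction t with
      | zero => exact map_zero _
      | add a b ha hb => rw [map_add, ha, hb, add_zero]
      | tmul a m =>
        rw [KaehlerDifferential.mapBaseChange_tmul]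
        have hm : m ∈ Submodule.span (ResidueField R) (Set.range (KaehlerDifferential.D k (ResidueField R))) :=
          (KaehlerDifferential.span_range_derivation k (ResidueField R)).ge trivial
        induction hm using Submodule.span_induction with
        | mem _ h =>
          obtain ⟨w, rfl⟩ := h
          obtain ⟨y, rfl⟩ := IsLocalRing.residue_surjective w
          rw [KaehlerDifferential.map_D]
          erw [hc y]
          rw [smul_zero]
        | zero => rw [map_zero, smul_zero]
        | add _ _ _ _ ha hb => rw [map_add, smul_add, ha, hb, add_zero]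
        | smul r _ _ ha => rw [map_smul, smul_comm, ha, smul_zero]
    rw [h0 a, h0 b]
  obtain ⟨c, hc⟩ := Submodule.mem_span_singleton.1
    (hg.ge (trivial : KaehlerDifferential.D k S (algebraMap R S y) ∈ (⊤ : Submodule S Ω[S⁄k])))
  have hcu : IsUnit c := by
    by_contra h
    refine hy ?_
    have h1 := congrArg (KaehlerDifferential.map k k S (ResidueField S)) hc
    rw [map_smul, KaehlerDifferential.map_D] at h1
    refine h1.symm.trans ?_
    rw [← algebraMap_smul (ResidueField S), ResidueField.algebraMap_eq,
      (residue_eq_zero_iff c).2 ((mem_maximalIdeal c).2 h), zero_smul]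
  haveI : Algebra.FormallyUnramified R S := ⟨⟨fun a b => by
    have h0 : ∀ z : Ω[S⁄R], z = 0 := fun z => by
      obtain ⟨t, rfl⟩ :=
        (show Function.Surjective (KaehlerDifferential.map k R S S) from KaehlerDifferential.map_surjective k R S) z
      obtain ⟨d, hd⟩ := Submodule.mem_span_singleton.1 (show t ∈ Submodule.span S {g} by rw [hg]; trivial)
      rw [← hd]
      obtain ⟨v, rfl⟩ := hcu
      have hg' : g = (↑v⁻¹ : S) • KaehlerDifferential.D k S (algebraMap R S y) := by
        rw [← hc, smul_smul, Units.inv_mul, one_smul]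
      rw [hg', map_smul, map_smul, KaehlerDifferential.map_D]
      simp
    rw [h0 a, h0 b]⟩⟩
  exact Algebra.FormallyUnramified.map_maximalIdeal

attribute [local instance] Curv2.stalkAlgebra

variable {k : Type u} [Field k] (X : Scheme.{u}) [X.Over (Spec (CommRingCat.of k))]
  [SmoothOfRelativeDimension 1 (X ↘ Spec (CommRingCat.of k))]

/-- Differentials of a local ring of a smooth curve are generated by one element. -/
theorem exists_generator (x : X) :
    Algebra.EssFiniteType k (X.presheaf.stalk x) ∧
      ∃ g : Ω[X.presheaf.stalk x⁄k], Submodule.span (X.presheaf.stalk x) {g} = ⊤ := by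
  let f := X ↘ Spec (CommRingCat.of k)
  obtain ⟨U, _, V, hV, hx, e, hf⟩ :=
    SmoothOfRelativeDimension.exists_isStandardSmoothOfRelativeDimension (n := 1) (f := f) x
  obtain rfl : U = ⊤ := top_unique fun y _ =>
    (@Subsingleton.elim (Spec (CommRingCat.of k)) (inferInstanceAs (Subsingleton (PrimeSpectrum k))) y (f x)).symm ▸ e hx
  letI : Algebra k Γ(X, V) := (SmoothReg.affMap f V).toAlgebra
  haveI : Algebra.IsStandardSmoothOfRelativeDimension 1 k Γ(X, V) :=
    (hf.comp (RingHom.IsStandardSmoothOfRelativeDimension.equiv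
      (Scheme.ΓSpecIso (CommRingCat.of k)).symm.commRingCatIsoToRingEquiv)).toAlgebra
  letI := X.presheaf.algebra_section_stalk ⟨x, hx⟩
  haveI : IsLocalization.AtPrime (X.presheaf.stalk x) (hV.primeIdealOf ⟨x, hx⟩).asIdeal :=
    hV.isLocalization_stalk ⟨x, hx⟩
  haveI : IsScalarTower k Γ(X, V) (X.presheaf.stalk x) := IsScalarTower.of_algebraMap_eq fun c => by
    show X.presheaf.germ ⊤ _ _ _ = X.presheaf.germ V _ _ _
    exact (X.presheaf.germ_res_apply (homOfLE (le_top : V ≤ ⊤)) x hx _).symm
  haveI : Algebra.EssFiniteType Γ(X, V) (X.presheaf.stalk x) :=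
    .of_isLocalization _ (hV.primeIdealOf ⟨x, hx⟩).asIdeal.primeCompl
  haveI : Algebra.IsStandardSmooth k Γ(X, V) :=
    Algebra.IsStandardSmoothOfRelativeDimension.isStandardSmooth 1
  haveI : Algebra.FiniteType k Γ(X, V) := inferInstance
  refine ⟨Algebra.EssFiniteType.comp k Γ(X, V) _, ?_⟩
  haveI : Nontrivial Γ(X, V) := (X.presheaf.germ V x hx).hom.domain_nontrivial
  have h1 : Module.rank Γ(X, V) Ω[Γ(X, V)⁄k] = 1 := by
    rw [Algebra.IsStandardSmoothOfRelativeDimension.rank_kaehlerDifferential 1, Nat.cast_one]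
  let b := Module.Free.chooseBasis Γ(X, V) Ω[Γ(X, V)⁄k]
  obtain ⟨_, ⟨i₀⟩⟩ := Cardinal.eq_one_iff_unique.1 (b.mk_eq_rank''.trans h1)
  let l := KaehlerDifferential.map k k Γ(X, V) (X.presheaf.stalk x)
  refine ⟨l (b i₀), eq_top_iff.2 fun z _ => ?_⟩
  haveI : IsLocalizedModule (hV.primeIdealOf ⟨x, hx⟩).asIdeal.primeCompl l := inferInstance
  obtain ⟨⟨w, s⟩, hws⟩ := IsLocalizedModule.surj (hV.primeIdealOf ⟨x, hx⟩).asIdeal.primeCompl l z
  have hb : b.repr w i₀ • b i₀ = w := by
    apply b.repr.injective
    ext i
    rw [Subsingleton.elim i i₀, map_smul, b.repr_self]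
    simp
  obtain ⟨v, hv⟩ := IsLocalization.map_units (X.presheaf.stalk x) s
  have hz : z = (↑v⁻¹ : X.presheaf.stalk x) • l w := by
    rw [← hws, Submonoid.smul_def, ← algebraMap_smul (X.presheaf.stalk x) (s : Γ(X, V)) z, ← hv, smul_smul, Units.inv_mul,
      one_smul]
  rw [hz, ← hb, map_smul, ← algebraMap_smul (X.presheaf.stalk x) (b.repr w i₀) (l (b i₀)), smul_smul]
  exact Submodule.smul_mem _ _ (Submodule.mem_span_singleton_self _)

include k in
/-- The local ring at a closed point of a smooth curve is not a field. -/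
theorem not_isField (x : X) (hx' : IsClosed ({x} : Set X)) : ¬ IsField (X.presheaf.stalk x) := fun hfld => by
  let f := X ↘ Spec (CommRingCat.of k)
  obtain ⟨U, _, V, hV, hx, e, hf⟩ :=
    SmoothOfRelativeDimension.exists_isStandardSmoothOfRelativeDimension (n := 1) (f := f) x
  obtain rfl : U = ⊤ := top_unique fun y _ =>
    (@Subsingleton.elim (Spec (CommRingCat.of k)) (inferInstanceAs (Subsingleton (PrimeSpectrum k))) y (f x)).symm ▸ e hx
  letI : Algebra k Γ(X, V) := (SmoothReg.affMap f V).toAlgebra
  haveI : Algebra.IsStandardSmoothOfRelativeDimension 1 k Γ(X, V) :=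
    (hf.comp (RingHom.IsStandardSmoothOfRelativeDimension.equiv
      (Scheme.ΓSpecIso (CommRingCat.of k)).symm.commRingCatIsoToRingEquiv)).toAlgebra
  haveI : Algebra.IsStandardSmooth k Γ(X, V) :=
    Algebra.IsStandardSmoothOfRelativeDimension.isStandardSmooth 1
  obtain ⟨g, hg⟩ := Algebra.IsStandardSmoothOfRelativeDimension.exists_etale_mvPolynomial (n := 1) k Γ(X, V)
  letI : Algebra (MvPolynomial (Fin 1) k) Γ(X, V) := g.toRingHom.toAlgebra
  haveI : Algebra.Etale (MvPolynomial (Fin 1) k) Γ(X, V) := hg
  letI := X.presheaf.algebra_section_stalk ⟨x, hx⟩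
  let m := (hV.primeIdealOf ⟨x, hx⟩).asIdeal
  haveI : IsLocalization.AtPrime (X.presheaf.stalk x) m := hV.isLocalization_stalk ⟨x, hx⟩
  haveI : m.IsMaximal := hV.primeIdealOf_isMaximal_of_isClosed ⟨x, hx⟩ hx'
  letI : Algebra (MvPolynomial (Fin 1) k) (X.presheaf.stalk x) :=
    ((algebraMap Γ(X, V) (X.presheaf.stalk x)).comp g.toRingHom).toAlgebra
  haveI : IsScalarTower (MvPolynomial (Fin 1) k) Γ(X, V) (X.presheaf.stalk x) := IsScalarTower.of_algebraMap_eq' rfl
  haveI : Module.Flat Γ(X, V) (X.presheaf.stalk x) := IsLocalization.flat _ m.primeCompl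
  haveI : Module.Flat (MvPolynomial (Fin 1) k) (X.presheaf.stalk x) :=
    Module.Flat.trans (MvPolynomial (Fin 1) k) Γ(X, V) _
  obtain ⟨t, ht0, ht⟩ : ∃ t : MvPolynomial (Fin 1) k, t ≠ 0 ∧ g t ∈ m := by
    by_contra hc
    push Not at hc
    letI := Ideal.Quotient.field m
    haveI : Module.Finite k (Γ(X, V) ⧸ m) := finite_of_finite_type_of_isJacobsonRing k (Γ(X, V) ⧸ m)
    let φ : MvPolynomial (Fin 1) k →ₐ[k] (Γ(X, V) ⧸ m) := (Ideal.Quotient.mkₐ k m).comp g
    have hinj : Function.Injective φ := (injective_iff_map_eq_zero φ).2 fun t ht => by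
      by_contra h0
      exact hc t h0 (Ideal.Quotient.eq_zero_iff_mem.1 ht)
    haveI := Module.Finite.of_injective φ.toLinearMap hinj
    exact MvPolynomial.transcendental_X k (0 : Fin 1) (Algebra.IsIntegral.isIntegral _).isAlgebraic
  have hz : algebraMap (MvPolynomial (Fin 1) k) (X.presheaf.stalk x) t = 0 := by
    by_contra h
    obtain ⟨b, hb⟩ := hfld.mul_inv_cancel h
    exact (IsLocalization.AtPrime.isUnit_to_map_iff (X.presheaf.stalk x) m (g t)).1
      (IsUnit.of_mul_eq_one _ hb) ht
  have h : t • (1 : X.presheaf.stalk x) = 0 := by rw [Algebra.smul_def, hz, zero_mul]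
  exact one_ne_zero ((smul_eq_zero.1 h).resolve_left ht0)

end Groth.Agent.TameResidue
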