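import Groth.Agent.TameResidue.Prim
import Groth.Agent.CurveRamAC.Local
import Mathlib.RingTheory.Kaehler.Polynomial
import Mathlib.RingTheory.RamificationInertia.Ramification
import Mathlib.RingTheory.DedekindDomain.Dvr

/-!
# The different exponent of a map of discrete valuation rings with cyclic differentials
-/

set_option autoImplicit false
set_option linter.style.haveILetI false
set_option backward.isDefEq.respectTransparency false
set_option maxHeartbeats 800000

universe u

open IsLocalRing Polynomial

noncomputable section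

namespace Groth.Agent.TameResidue

section Artin

variable {κ A K : Type u} [Field κ] [CommRing A] [Field K] [Algebra κ A] [Algebra κ K]

/-- The criterion for equality. -/
def Tame (κ K : Type u) [Field κ] [Field K] [Algebra κ K] (e : ℕ) : Prop :=
  Algebra.IsSeparable κ K ∧ (e : κ) ≠ 0

open Classical in
/-- The annihilator of the differentials of an Artinian quotient of a discrete valuation ring. -/
theorem annihilator_eq [FiniteDimensional κ K] (π : A →ₐ[κ] K) (hπ : Function.Surjective π) (s : A)
    (hker : RingHom.ker π = Ideal.span {s}) (e : ℕ) (he1 : 1 ≤ e) (hpow : ∀ j, s ^ j = 0 ↔ e ≤ j)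
    (g : Ω[A⁄κ]) (hg : Submodule.span A {g} = ⊤) :
    Module.annihilator A Ω[A⁄κ] = if Tame κ K e then Ideal.span {s ^ (e - 1)} else ⊥ := by
  letI : Algebra A K := π.toRingHom.toAlgebra
  haveI : IsScalarTower κ A K := IsScalarTower.of_algebraMap_eq fun c => (π.commutes c).symm
  have hπa : ∀ a : A, algebraMap A K a = π a := fun _ => rfl
  have hπs : π s = 0 := RingHom.mem_ker.1 (hker ▸ Ideal.mem_span_singleton_self s)
  have hdvd : ∀ a, π a = 0 → ∃ c, c * s = a := fun a ha =>
    Ideal.mem_span_singleton'.1 (hker ▸ RingHom.mem_ker.2 ha)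
  have hnil : IsNilpotent s := ⟨e, (hpow e).2 le_rfl⟩
  have hunit : ∀ a, π a ≠ 0 → IsUnit a := fun a ha => by
    obtain ⟨b, hb⟩ := hπ (π a)⁻¹
    obtain ⟨c, hc⟩ := hdvd (a * b - 1) (by rw [map_sub, map_mul, hb, map_one, mul_inv_cancel₀ ha, sub_self])
    have hab : a * b = 1 + c * s := by rw [hc, add_sub_cancel]
    exact isUnit_of_mul_isUnit_left (hab ▸ (Commute.isNilpotent_mul_left (Commute.all c s) hnil).isUnit_one_add)
  -- the residue extension is monogenic
  have hmapK : Function.Surjective (KaehlerDifferential.map κ κ A K) :=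
    KaehlerDifferential.map_surjective_of_surjective κ κ A K hπ
  have hgK : Submodule.span K {KaehlerDifferential.map κ κ A K g} = ⊤ := top_unique fun z _ => by
    obtain ⟨t, rfl⟩ := hmapK z
    obtain ⟨d, rfl⟩ := Submodule.mem_span_singleton.1 (hg.ge (Submodule.mem_top (x := t)))
    rw [map_smul, ← algebraMap_smul K d]
    exact Submodule.smul_mem _ _ (Submodule.mem_span_singleton_self _)
  obtain ⟨γ, hγ⟩ := exists_primitive _ hgK
  have hint : IsIntegral κ γ := Algebra.IsIntegral.isIntegral γ
  let p := minpoly κ γ
  have hp0 : p ≠ 0 := minpoly.ne_zero hint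
  have haev : ∀ (q : κ[X]) (a : A), π a = γ → π (aeval a q) = aeval γ q := fun q a ha => by
    rw [← aeval_algHom_apply, ha]
  -- a generator whose minimal polynomial gives a uniformiser
  obtain ⟨θ, hθ, u, hu, ht⟩ : ∃ θ : A, π θ = γ ∧ ∃ u : A, π u ≠ 0 ∧ aeval θ p = u * s := by
    obtain ⟨θ, hθ⟩ := hπ γ
    obtain ⟨c, hc⟩ := hdvd (aeval θ p) (by rw [haev p θ hθ, minpoly.aeval])
    by_cases hc0 : π c ≠ 0
    · exact ⟨θ, hθ, c, hc0, hc.symm⟩
    push Not at hc0
    by_cases he2 : e = 1
    · exact ⟨θ, hθ, 1, by rw [map_one]; exact one_ne_zero,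
        by rw [← hc, show s = 0 by simpa [he2] using (hpow 1).2 (by omega), mul_zero, mul_zero]⟩
    by_cases hp' : aeval γ (derivative p) ≠ 0
    · obtain ⟨k, hk⟩ := Polynomial.binomExpansion (p.map (algebraMap κ A)) θ s
      refine ⟨θ + s, by rw [map_add, hθ, hπs, add_zero], c + aeval θ (derivative p) + k * s, ?_, ?_⟩
      · rw [map_add, map_add, map_mul, hπs, mul_zero, hc0, haev _ θ hθ]
        simpa using hp'
      · rw [eval_map_algebraMap, eval_map_algebraMap, derivative_map, eval_map_algebraMap, ← hc] at hk
        rw [hk]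
        ring
    push Not at hp'
    exfalso
    -- otherwise there is a coefficient field modulo the square, so two independent differentials
    obtain ⟨c', hc'⟩ := hdvd c hc0
    have hs2 : ∀ a : A, a * s ∈ Ideal.span {s ^ 2} → π a = 0 := fun a ha => by
      by_contra h
      obtain ⟨b, hb⟩ := Ideal.mem_span_singleton'.1 ha
      obtain ⟨v, hv⟩ := hunit (a - b * s) (by rwa [map_sub, map_mul, hπs, mul_zero, sub_zero])
      have h1 : (a - b * s) * s = 0 := by linear_combination -hb
      rw [← hv] at h1
      have h0 : s = 0 := by simpa using congrArg ((↑v⁻¹ : A) * ·) h1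
      exact absurd ((hpow 1).1 (by rw [pow_one, h0])) (by omega)
    let Q := A ⧸ Ideal.span {s ^ 2}
    have hlift : ∀ z : K, ∃ q : κ[X], aeval γ q = z := fun z => by
      have h := hγ.ge (IntermediateField.mem_top (x := z))
      rw [← IntermediateField.mem_toSubalgebra, IntermediateField.adjoin_simple_toSubalgebra_of_isAlgebraic hint.isAlgebraic,
        Algebra.adjoin_singleton_eq_range_aeval] at h
      exact h
    choose q hq using hlift
    have hkerγ : ∀ r : κ[X], aeval γ r = 0 → aeval θ r ∈ Ideal.span {s ^ 2} := fun r hr => by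
      obtain ⟨r', rfl⟩ := (minpoly.dvd κ γ hr : p ∣ r)
      rw [map_mul, ← hc, ← hc']
      exact Ideal.mem_span_singleton'.2 ⟨c' * aeval θ r', by ring⟩
    have hwell : ∀ (a : A) (r : κ[X]), π a = aeval γ r → ∃ b, b * s = a - aeval θ r := fun a r h =>
      hdvd _ (by rw [map_sub, haev r θ hθ, h, sub_self])
    choose D hD using fun a => hwell a (q (π a)) (hq _).symm
    have hDspec : ∀ (a : A) (r : κ[X]) (b : A), π a = aeval γ r →
        b * s - (a - aeval θ r) ∈ Ideal.span {s ^ 2} → π b = π (D a) := fun a r b hr hb => by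
      refine sub_eq_zero.1 ?_
      rw [← map_sub]
      refine hs2 _ ?_
      have : (b - D a) * s = (b * s - (a - aeval θ r)) + aeval θ (q (π a) - r) := by
        rw [map_sub, sub_mul, hD a]
        ring
      rw [this]
      exact Ideal.add_mem _ hb (hkerγ _ (by rw [map_sub, hq, hr, sub_self]))
    let δ : Derivation κ A K := Derivation.mk'
      { toFun := fun a => π (D a)
        map_add' := fun a b => by
          rw [← map_add, eq_comm]
          refine hDspec (a + b) (q (π a) + q (π b)) _ (by rw [map_add, map_add, hq, hq]) ?_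
          rw [map_add, add_mul, hD a, hD b,
            show a - aeval θ (q (π a)) + (b - aeval θ (q (π b))) -
              (a + b - (aeval θ (q (π a)) + aeval θ (q (π b)))) = 0 by ring]
          exact Ideal.zero_mem _
        map_smul' := fun l a => by
          rw [RingHom.id_apply, ← map_smul π, eq_comm]
          refine hDspec (l • a) (l • q (π a)) _ (by rw [map_smul, map_smul, hq]) ?_
          rw [map_smul, smul_mul_assoc, hD a, smul_sub, sub_self]
          exact Ideal.zero_mem _ }
      (fun a b => by
        show π (D (a * b)) = a • π (D b) + b • π (D a)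
        rw [Algebra.smul_def, Algebra.smul_def, hπa, hπa, ← map_mul, ← map_mul, ← map_add, eq_comm]
        refine hDspec (a * b) (q (π a) * q (π b)) _ (by rw [map_mul, map_mul, hq, hq]) ?_
        rw [map_mul, add_mul, mul_assoc, mul_assoc, hD a, hD b,
          show a * (b - aeval θ (q (π b))) + b * (a - aeval θ (q (π a))) - (a * b - aeval θ (q (π a)) * aeval θ (q (π b)))
            = (a - aeval θ (q (π a))) * (b - aeval θ (q (π b))) by ring, ← hD a, ← hD b]
        exact Ideal.mem_span_singleton'.2 ⟨D a * D b, by ring⟩)
    have hδs : δ s = 1 := by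
      show π (D s) = 1
      rw [← map_one π, eq_comm]
      exact hDspec s 0 1 (by rw [hπs, map_zero]) (by simp)
    have hins : KaehlerDifferential.map κ κ A K g ≠ 0 := by
      intro h0
      have hsub : ∀ z : Ω[K⁄κ], z = 0 := fun z => by
        obtain ⟨d, rfl⟩ := Submodule.mem_span_singleton.1 (hgK.ge (Submodule.mem_top (x := z)))
        rw [h0, smul_zero]
      haveI : Algebra.EssFiniteType κ K := inferInstance
      haveI : Algebra.FormallyUnramified κ K := ⟨⟨fun a b => by rw [hsub a, hsub b]⟩⟩
      haveI : Algebra.IsSeparable κ K := Algebra.FormallyUnramified.isSeparable κ K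
      exact (Algebra.IsSeparable.isSeparable κ γ).aeval_derivative_ne_zero (minpoly.aeval κ γ) hp'
    obtain ⟨d, hd⟩ := Submodule.mem_span_singleton.1
      (hg.ge (Submodule.mem_top (x := KaehlerDifferential.D κ A s)))
    have h1 : π d ≠ 0 := fun hd0 => by
      have := congrArg δ.liftKaehlerDifferential hd
      rw [map_smul, Derivation.liftKaehlerDifferential_comp_D, hδs, Algebra.smul_def, hπa, hd0, zero_mul] at this
      exact zero_ne_one this
    have := congrArg (KaehlerDifferential.map κ κ A K) hd
    rw [map_smul, KaehlerDifferential.map_D, hπa, hπs, map_zero, ← algebraMap_smul K, hπa] at this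
    exact hins ((smul_eq_zero.1 this).resolve_left h1)
  obtain ⟨u', rfl⟩ := hunit u hu
  have htp : ∀ j, aeval θ p ^ j = 0 ↔ e ≤ j := fun j => by
    rw [ht, mul_pow, ← Units.val_pow_eq_pow_val, Units.mul_right_eq_zero, hpow]
  -- the algebra is generated by one element, with kernel a power of the minimal polynomial
  have hsurj : Function.Surjective (aeval θ : κ[X] →ₐ[κ] A) := by
    intro a
    have key : ∀ (n : ℕ) (a : A), ∃ (q : κ[X]) (c : A), a = aeval θ q + aeval θ p ^ n * c := by
      intro n
      induction n with
      | zero => exact fun a => ⟨0, a, by simp⟩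
      | succ n ih =>
        intro a
        obtain ⟨q, c, hc⟩ := ih a
        have h := hγ.ge (IntermediateField.mem_top (x := π c))
        rw [← IntermediateField.mem_toSubalgebra, IntermediateField.adjoin_simple_toSubalgebra_of_isAlgebraic hint.isAlgebraic,
          Algebra.adjoin_singleton_eq_range_aeval] at h
        obtain ⟨r, hr : aeval γ r = π c⟩ := h
        obtain ⟨d, hd⟩ := hdvd (c - aeval θ r) (by rw [map_sub, haev r θ hθ, hr, sub_self])
        refine ⟨q + p ^ n * r, (↑u'⁻¹ : A) * d, ?_⟩
        rw [hc, map_add, map_mul, map_pow, pow_succ, mul_assoc (aeval θ p ^ n) (aeval θ p)]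
        have : aeval θ p * ((↑u'⁻¹ : A) * d) = c - aeval θ r := by
          rw [← hd, ht]
          linear_combination (d * s) * u'.mul_inv
        rw [this]
        ring
    obtain ⟨q, c, hc⟩ := key e a
    exact ⟨q, by rw [hc, (htp e).2 le_rfl, zero_mul, add_zero]⟩
  have hkerA : ∀ q : κ[X], aeval θ q = 0 → p ^ e ∣ q := fun q hq0 => by
    have key : ∀ j ≤ e, p ^ j ∣ q := by
      intro j hj
      induction j with
      | zero => simp
      | succ j ih =>
        obtain ⟨r, rfl⟩ := ih (by omega)
        rw [pow_succ]
        refine mul_dvd_mul_left _ (minpoly.dvd κ γ ?_)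
        by_contra hne
        rw [map_mul, map_pow] at hq0
        exact absurd ((htp j).1 ((hunit (aeval θ r) (by rwa [haev r θ hθ])).mul_left_eq_zero.1 hq0)) (by omega)
    exact key e le_rfl
  let w : A := aeval θ (derivative (p ^ e))
  -- the annihilator of the differentials
  have hDq : ∀ q : κ[X], KaehlerDifferential.D κ A (aeval θ q) =
      aeval θ (derivative q) • KaehlerDifferential.D κ A θ := fun q => (KaehlerDifferential.D κ A).map_aeval q θ
  have hspan : Submodule.span A {KaehlerDifferential.D κ A θ} = ⊤ := by
    rw [← top_le_iff, ← KaehlerDifferential.span_range_derivation, Submodule.span_le]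
    rintro _ ⟨a, rfl⟩
    obtain ⟨q, rfl⟩ := hsurj a
    rw [SetLike.mem_coe, hDq]
    exact Submodule.smul_mem _ _ (Submodule.mem_span_singleton_self _)
  have hann : Module.annihilator A Ω[A⁄κ] = Ideal.span {w} := by
    apply le_antisymm
    · intro r hr
      rw [Module.mem_annihilator] at hr
      let lift := Function.surjInv hsurj
      have hlift : ∀ a, aeval θ (lift a) = a := Function.surjInv_eq hsurj
      have hw : ∀ q₁ q₂ : κ[X], aeval θ q₁ = aeval θ q₂ →
          Ideal.Quotient.mk (Ideal.span {w}) (aeval θ (derivative q₁)) =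
            Ideal.Quotient.mk _ (aeval θ (derivative q₂)) := fun q₁ q₂ h => by
        obtain ⟨r, hr⟩ := hkerA (q₁ - q₂) (by rw [map_sub, h, sub_self])
        rw [Ideal.Quotient.eq, ← map_sub, ← derivative_sub, hr, derivative_mul, map_add, map_mul, map_mul,
          map_pow (aeval θ), (htp e).2 le_rfl, zero_mul, add_zero]
        exact Ideal.mul_mem_right _ _ (Ideal.mem_span_singleton_self w)
      let δ : Derivation κ A (A ⧸ Ideal.span {w}) := Derivation.mk'
        { toFun := fun a => Ideal.Quotient.mk _ (aeval θ (derivative (lift a)))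
          map_add' := fun a b => by
            rw [hw (lift (a + b)) (lift a + lift b) (by rw [map_add, hlift, hlift, hlift]), derivative_add, map_add,
              map_add]
          map_smul' := fun l a => by
            rw [RingHom.id_apply, hw (lift (l • a)) (l • lift a) (by rw [map_smul, hlift, hlift]), derivative_smul,
              map_smul]
            rfl }
        (fun a b => by
          show Ideal.Quotient.mk _ (aeval θ (derivative (lift (a * b)))) =
            a • Ideal.Quotient.mk _ (aeval θ (derivative (lift b))) +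
              b • Ideal.Quotient.mk _ (aeval θ (derivative (lift a)))
          rw [hw (lift (a * b)) (lift a * lift b) (by rw [map_mul, hlift, hlift, hlift]), derivative_mul, map_add,
            map_mul, map_mul, hlift, hlift, map_add, map_mul, map_mul, Algebra.smul_def, Algebra.smul_def,
            Ideal.Quotient.algebraMap_eq]
          ring)
      have h1 : δ θ = 1 := by
        show Ideal.Quotient.mk _ (aeval θ (derivative (lift θ))) = 1
        rw [hw (lift θ) X (by rw [hlift, aeval_X]), derivative_X, map_one, map_one]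
      have h := congrArg δ.liftKaehlerDifferential (hr (KaehlerDifferential.D κ A θ))
      rw [map_smul, Derivation.liftKaehlerDifferential_comp_D, h1, map_zero, Algebra.smul_def, mul_one,
        Ideal.Quotient.algebraMap_eq, Ideal.Quotient.eq_zero_iff_mem] at h
      exact h
    · rw [Ideal.span_singleton_le_iff_mem, Module.mem_annihilator]
      intro m
      obtain ⟨d, rfl⟩ := Submodule.mem_span_singleton.1 (hspan.ge (Submodule.mem_top (x := m)))
      rw [smul_comm, show w • KaehlerDifferential.D κ A θ = KaehlerDifferential.D κ A (aeval θ (p ^ e)) from (hDq _).symm,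
        map_pow, (htp e).2 le_rfl, map_zero, smul_zero]
  rw [hann]
  obtain ⟨m, rfl⟩ : ∃ m, e = m + 1 := ⟨e - 1, by omega⟩
  have hwdef : w = ((m + 1 : ℕ) : A) * (aeval θ p ^ m * aeval θ (derivative p)) := by
    show aeval θ (derivative (p ^ (m + 1))) = _
    rw [derivative_pow]
    simp [mul_assoc]
  have hsepiff : Algebra.IsSeparable κ K ↔ aeval γ (derivative p) ≠ 0 := by
    constructor
    · intro h
      exact (Algebra.IsSeparable.isSeparable κ γ).aeval_derivative_ne_zero (minpoly.aeval κ γ)
    · intro h
      have h1 : IsSeparable κ γ := (separable_iff_derivative_ne_zero (minpoly.irreducible hint)).2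
        fun hd => h (by rw [show derivative p = 0 from hd, map_zero])
      haveI : Algebra.IsSeparable κ (⊤ : IntermediateField κ K) :=
        hγ ▸ (IntermediateField.isSeparable_adjoin_simple_iff_isSeparable _ _).2 h1
      exact AlgEquiv.Algebra.isSeparable (IntermediateField.topEquiv (F := κ) (E := K))
  split_ifs with htame
  · obtain ⟨hsep, hne⟩ := htame
    have hw1 : w = (((m + 1 : ℕ) : A) * (u' : A) ^ m * aeval θ (derivative p)) * s ^ m := by
      rw [hwdef, ht]; ring
    rw [hw1, Nat.add_sub_cancel, Ideal.span_singleton_mul_left_unit]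
    refine hunit _ ?_
    rw [map_mul, map_mul, map_pow, map_natCast, haev _ θ hθ, ← map_natCast (algebraMap κ K)]
    exact mul_ne_zero (mul_ne_zero ((_root_.map_ne_zero _).2 hne) (pow_ne_zero _ hu)) (hsepiff.1 hsep)
  · rw [Ideal.span_singleton_eq_bot]
    rcases not_and_or.1 htame with hns | hne
    · obtain ⟨c, hc⟩ := hdvd (aeval θ (derivative p))
        (by rw [haev _ θ hθ]; exact not_not.1 fun h => hns (hsepiff.2 h))
      rw [hwdef, ht, ← hc, show (m + 1 : ℕ) * ((↑u' * s) ^ m * (c * s)) =
        ((m + 1 : ℕ) * (↑u' : A) ^ m * c) * s ^ (m + 1) by ring, (hpow _).2 le_rfl, mul_zero]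
    · rw [hwdef, ← map_natCast (algebraMap κ A), not_not.1 hne, map_zero, zero_mul]

end Artin

/-- The ramification index of a local map of discrete valuation rings. -/
theorem ramificationIdx_eq {R S : Type u} [CommRing R] [CommRing S] [IsLocalRing R] [IsDomain S]
    [IsDiscreteValuationRing S] [Algebra R S] [IsLocalHom (algebraMap R S)] (e : ℕ)
    (he : (maximalIdeal R).map (algebraMap R S) = maximalIdeal S ^ e) :
    Ideal.ramificationIdx (maximalIdeal S) R = e := by
  let L := Localization.AtPrime (maximalIdeal S)
  haveI : IsDiscreteValuationRing L :=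
    IsLocalization.AtPrime.isDiscreteValuationRing_of_dedekind_domain S (IsDiscreteValuationRing.not_a_field S) L
  have hu : (maximalIdeal S).under R = maximalIdeal R := by
    have h := (local_hom_TFAE (algebraMap R S)).out 0 4
    exact h.1 inferInstance
  obtain ⟨s, hs⟩ := IsDiscreteValuationRing.exists_irreducible L
  rw [Ideal.ramificationIdx_def, hu, IsScalarTower.algebraMap_eq R S L, ← Ideal.map_map, he, Ideal.map_pow,
    IsLocalization.AtPrime.map_eq_maximalIdeal (maximalIdeal S) L, hs.maximalIdeal_eq, Ideal.span_singleton_pow,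
    CurveRamAC.length_quot_pow s hs.maximalIdeal_eq, ENat.toNat_natCast]

variable {R S : Type u} [CommRing R] [CommRing S] [IsDomain R] [IsDomain S]
  [IsDiscreteValuationRing R] [IsDiscreteValuationRing S] [Algebra R S] [IsLocalHom (algebraMap R S)]

/-- The length of the relative differentials, compared with the ramification index. -/
theorem length_kaehler_iff (hinj : Function.Injective (algebraMap R S))
    [Module.Finite (ResidueField R) (ResidueField S)] (g : Ω[S⁄R]) (hg : Submodule.span S {g} = ⊤) :
    ((Ideal.ramificationIdx (maximalIdeal S) R - 1 : ℕ) : ℕ∞) ≤ Module.length S Ω[S⁄R] ∧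
      (Module.length S Ω[S⁄R] = ((Ideal.ramificationIdx (maximalIdeal S) R - 1 : ℕ) : ℕ∞) ↔
        Tame (ResidueField R) (ResidueField S) (Ideal.ramificationIdx (maximalIdeal S) R)) := by
  obtain ⟨t, ht⟩ := IsDiscreteValuationRing.exists_irreducible R
  obtain ⟨s, hs⟩ := IsDiscreteValuationRing.exists_irreducible S
  set I : Ideal S := (maximalIdeal R).map (algebraMap R S) with hI
  have hne : I ≠ ⊥ := by
    rw [hI, ht.maximalIdeal_eq, Ideal.map_span, Set.image_singleton, ne_eq, Ideal.span_singleton_eq_bot,
      map_eq_zero_iff _ hinj]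
    exact ht.ne_zero
  obtain ⟨e, he⟩ := IsDiscreteValuationRing.ideal_eq_span_pow_irreducible hne hs
  have hepow : I = maximalIdeal S ^ e := by rw [he, hs.maximalIdeal_eq, Ideal.span_singleton_pow]
  rw [ramificationIdx_eq e hepow]
  have hIm : I ≤ maximalIdeal S := by
    have h := (local_hom_TFAE (algebraMap R S)).out 0 2
    exact h.1 inferInstance
  have he1 : 1 ≤ e := by
    rcases Nat.eq_zero_or_pos e with rfl | h
    · rw [he, pow_zero, Ideal.span_singleton_one, top_le_iff] at hIm
      exact absurd hIm (maximalIdeal.isMaximal S).ne_top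
    · exact h
  letI : Algebra (ResidueField R) (S ⧸ I) :=
    (Ideal.quotientMap I (algebraMap R S) Ideal.le_comap_map).toAlgebra
  haveI : IsScalarTower R (ResidueField R) (S ⧸ I) := IsScalarTower.of_algebraMap_eq fun _ => rfl
  let π : S ⧸ I →ₐ[ResidueField R] ResidueField S :=
    { Ideal.Quotient.lift I (residue S) (fun a ha => (residue_eq_zero_iff a).2 (hIm ha)) with
      commutes' := fun c => by
        obtain ⟨c, rfl⟩ := residue_surjective c
        rfl }
  have hπ : Function.Surjective π := fun z => by
    obtain ⟨a, rfl⟩ := residue_surjective z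
    exact ⟨Ideal.Quotient.mk I a, rfl⟩
  have hker : RingHom.ker π = Ideal.span {Ideal.Quotient.mk I s} := by
    ext x
    obtain ⟨a, rfl⟩ := Ideal.Quotient.mk_surjective x
    show residue S a = 0 ↔ _
    rw [residue_eq_zero_iff, hs.maximalIdeal_eq, Ideal.mem_span_singleton', Ideal.mem_span_singleton']
    constructor
    · rintro ⟨b, rfl⟩; exact ⟨Ideal.Quotient.mk I b, (map_mul _ _ _).symm⟩
    · rintro ⟨b, hb⟩
      obtain ⟨b, rfl⟩ := Ideal.Quotient.mk_surjective b
      rw [← map_mul, Ideal.Quotient.eq, he, Ideal.mem_span_singleton'] at hb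
      obtain ⟨d, hd⟩ := hb
      obtain ⟨e', rfl⟩ : ∃ e', e = e' + 1 := ⟨e - 1, by omega⟩
      exact ⟨b - d * s ^ e', by linear_combination -hd⟩
  have hpow : ∀ j, Ideal.Quotient.mk I s ^ j = 0 ↔ e ≤ j := fun j => by
    rw [← map_pow, Ideal.Quotient.eq_zero_iff_mem, he, Ideal.mem_span_singleton]
    exact pow_dvd_pow_iff hs.ne_zero hs.not_isUnit
  let φ := KaehlerDifferential.map R (ResidueField R) S (S ⧸ I)
  have hφ : Function.Surjective φ :=
    KaehlerDifferential.map_surjective_of_surjective R (ResidueField R) S (S ⧸ I) Ideal.Quotient.mk_surjective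
  have hgA : Submodule.span (S ⧸ I) {φ g} = ⊤ := top_unique fun z _ => by
    obtain ⟨x, rfl⟩ := hφ z
    obtain ⟨d, rfl⟩ := Submodule.mem_span_singleton.1 (hg.ge (Submodule.mem_top (x := x)))
    rw [map_smul, ← algebraMap_smul (S ⧸ I) d]
    exact Submodule.smul_mem _ _ (Submodule.mem_span_singleton_self _)
  have hA := annihilator_eq π hπ _ hker e he1 hpow _ hgA
  -- compare the two annihilators
  let J := Module.annihilator S Ω[S⁄R]
  have hJ : (Module.annihilator (S ⧸ I) Ω[(S ⧸ I)⁄ResidueField R]).comap (Ideal.Quotient.mk I) = J ⊔ I := by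
    apply le_antisymm
    · intro r hr
      rw [Ideal.mem_comap, Module.mem_annihilator] at hr
      let N : Submodule S Ω[S⁄R] := I • ⊤
      have hIN : ∀ (a : S), a ∈ I → ∀ m : Ω[S⁄R], a • m ∈ N := fun a ha m =>
        Submodule.smul_mem_smul ha Submodule.mem_top
      have hDI : ∀ a ∈ I, KaehlerDifferential.D R S a ∈ N := fun a ha => by
        rw [show I = Ideal.span {algebraMap R S t} by rw [hI, ht.maximalIdeal_eq, Ideal.map_span, Set.image_singleton]]
          at ha
        obtain ⟨z, rfl⟩ := Ideal.mem_span_singleton'.1 ha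
        rw [Derivation.leibniz, Derivation.map_algebraMap, smul_zero, zero_add]
        exact hIN _ (Ideal.mem_map_of_mem _ (ht.maximalIdeal_eq ▸ Ideal.mem_span_singleton_self t)) _
      letI : Module (S ⧸ I) (Ω[S⁄R] ⧸ N) := inferInstanceAs (Module (S ⧸ I) (Ω[S⁄R] ⧸ (I • ⊤ : Submodule S Ω[S⁄R])))
      haveI : IsScalarTower S (S ⧸ I) (Ω[S⁄R] ⧸ N) :=
        inferInstanceAs (IsScalarTower S (S ⧸ I) (Ω[S⁄R] ⧸ (I • ⊤ : Submodule S Ω[S⁄R])))
      letI : Module (ResidueField R) (Ω[S⁄R] ⧸ N) := Module.compHom _ (algebraMap (ResidueField R) (S ⧸ I))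
      haveI : IsScalarTower (ResidueField R) (S ⧸ I) (Ω[S⁄R] ⧸ N) := IsScalarTower.of_algebraMap_smul fun _ _ => rfl
      let sec := Function.surjInv (Ideal.Quotient.mk_surjective (I := I))
      have hsec : ∀ x, Ideal.Quotient.mk I (sec x) = x := Function.surjInv_eq _
      have hwd : ∀ a b : S, Ideal.Quotient.mk I a = Ideal.Quotient.mk I b →
          N.mkQ (KaehlerDifferential.D R S a) = N.mkQ (KaehlerDifferential.D R S b) := fun a b h => by
        rw [Submodule.mkQ_apply, Submodule.mkQ_apply, Submodule.Quotient.eq, ← map_sub]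
        exact hDI _ (Ideal.Quotient.eq.1 h)
      let δ : Derivation (ResidueField R) (S ⧸ I) (Ω[S⁄R] ⧸ N) := Derivation.mk'
        { toFun := fun x => N.mkQ (KaehlerDifferential.D R S (sec x))
          map_add' := fun x y => by
            rw [hwd (sec (x + y)) (sec x + sec y) (by rw [map_add, hsec, hsec, hsec]), map_add, map_add]
          map_smul' := fun c x => by
            obtain ⟨c, rfl⟩ := residue_surjective c
            rw [RingHom.id_apply, hwd (sec (residue R c • x)) (algebraMap R S c * sec x)
              (by rw [map_mul, hsec, hsec, Algebra.smul_def]; rfl), Derivation.leibniz, Derivation.map_algebraMap,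
              smul_zero, add_zero, map_smul, ← algebraMap_smul (S ⧸ I) (algebraMap R S c)]
            rfl }
        (fun x y => by
          show N.mkQ (KaehlerDifferential.D R S (sec (x * y))) = x • N.mkQ _ + y • N.mkQ _
          rw [hwd (sec (x * y)) (sec x * sec y) (by rw [map_mul, hsec, hsec, hsec]), Derivation.leibniz, map_add,
            map_smul, map_smul, ← algebraMap_smul (S ⧸ I) (sec x), ← algebraMap_smul (S ⧸ I) (sec y),
            Ideal.Quotient.algebraMap_eq, hsec, hsec])
      let ψ := δ.liftKaehlerDifferential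
      have hψ : ∀ x : Ω[S⁄R], ψ (φ x) = N.mkQ x := fun x => by
        obtain ⟨x, rfl⟩ := KaehlerDifferential.linearCombination_surjective R S x
        induction x using Finsupp.induction_linear with
        | zero => simp
        | add x y hx hy => rw [map_add, map_add, map_add, map_add, hx, hy]
        | single a c =>
          rw [Finsupp.linearCombination_single, map_smul, KaehlerDifferential.map_D, ← algebraMap_smul (S ⧸ I) c,
            map_smul, Derivation.liftKaehlerDifferential_comp_D, map_smul, ← algebraMap_smul (S ⧸ I) c]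
          congr 1
          exact hwd _ _ (hsec _)
      have h0 : r • g ∈ N := by
        rw [← Submodule.Quotient.mk_eq_zero, Submodule.Quotient.mk_smul, ← Submodule.mkQ_apply, ← hψ,
          ← algebraMap_smul (S ⧸ I) r, ← map_smul ψ]
        exact (congrArg ψ (hr (φ g))).trans (map_zero ψ)
      have hN : N = (I • Submodule.span S {g}) := by rw [hg]
      rw [hN, Submodule.mem_smul_span_singleton] at h0
      obtain ⟨a, ha, hag⟩ := h0
      rw [← sub_add_cancel r a]
      refine Submodule.add_mem_sup ?_ ha
      rw [Module.mem_annihilator]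
      intro m
      obtain ⟨d, rfl⟩ := Submodule.mem_span_singleton.1 (hg.ge (Submodule.mem_top (x := m)))
      rw [smul_comm, sub_smul, hag, sub_self, smul_zero]
    · refine sup_le (fun r hr => ?_) fun r hr => ?_
      · rw [Ideal.mem_comap, Module.mem_annihilator]
        intro z
        obtain ⟨x, rfl⟩ := hφ z
        rw [← Ideal.Quotient.algebraMap_eq, algebraMap_smul, ← map_smul, Module.mem_annihilator.1 hr x, map_zero]
      · rw [Ideal.mem_comap, Ideal.Quotient.eq_zero_iff_mem.2 hr]
        exact Ideal.zero_mem _
  have hlenJ : Module.length S Ω[S⁄R] = Module.length S (S ⧸ J) := by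
    let l : S →ₗ[S] Ω[S⁄R] := LinearMap.toSpanSingleton S _ g
    have hl : Function.Surjective l := fun m =>
      Submodule.mem_span_singleton.1 (hg.ge (Submodule.mem_top (x := m)))
    have hk : LinearMap.ker l = J := by
      ext r
      rw [LinearMap.mem_ker, Module.mem_annihilator]
      refine ⟨fun h m => ?_, fun h => h g⟩
      obtain ⟨d, rfl⟩ := hl m
      show r • d • g = 0
      rw [smul_comm, show r • g = 0 from h, smul_zero]
    rw [← (l.quotKerEquivOfSurjective hl).length_eq, hk]
  rw [hlenJ]
  rw [hA] at hJ
  have hcomap : ∀ j, (Ideal.span {Ideal.Quotient.mk I s ^ j}).comap (Ideal.Quotient.mk I) =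
      Ideal.span {s ^ j} ⊔ I := fun j => by
    rw [← map_pow, ← Set.image_singleton, ← Ideal.map_span, Ideal.comap_map_of_surjective _ Ideal.Quotient.mk_surjective,
      ← RingHom.ker_eq_comap_bot, Ideal.mk_ker]
  have hlenpow := CurveRamAC.length_quot_pow s hs.maximalIdeal_eq
  by_cases htame : Tame (ResidueField R) (ResidueField S) e
  · rw [if_pos htame, hcomap, sup_eq_left.2 (he ▸ Ideal.span_singleton_le_span_singleton.2
      (pow_dvd_pow s (by omega : e - 1 ≤ e)))] at hJ
    have hJ' : J = Ideal.span {s ^ (e - 1)} := by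
      refine le_antisymm (hJ ▸ le_sup_left) ?_
      have hJ0 : J ≠ ⊥ := by
        intro h0
        rw [h0, bot_sup_eq, he] at hJ
        have h1 : s ^ (e - 1) ∈ Ideal.span {s ^ e} := hJ ▸ Ideal.mem_span_singleton_self _
        rw [Ideal.mem_span_singleton, pow_dvd_pow_iff hs.ne_zero hs.not_isUnit] at h1
        omega
      obtain ⟨j, hj⟩ := IsDiscreteValuationRing.ideal_eq_span_pow_irreducible hJ0 hs
      rw [hj]
      have hmem : s ^ (e - 1) ∈ Ideal.span {s ^ j} ⊔ Ideal.span {s ^ e} := by
        rw [← hj, ← he, ← hJ]; exact Ideal.mem_span_singleton_self _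
      rw [Ideal.span_singleton_le_span_singleton]
      by_contra hlt
      have hje : e ≤ j := by
        by_contra h
        exact hlt (pow_dvd_pow s (by omega))
      rw [sup_eq_right.2 (Ideal.span_singleton_le_span_singleton.2 (pow_dvd_pow s hje)), Ideal.mem_span_singleton,
        pow_dvd_pow_iff hs.ne_zero hs.not_isUnit] at hmem
      omega
    rw [hJ', hlenpow]
    exact ⟨le_rfl, fun _ => htame, fun _ => rfl⟩
  · rw [if_neg htame, ← RingHom.ker_eq_comap_bot, Ideal.mk_ker, he] at hJ
    have hJe : J ≤ Ideal.span {s ^ e} := hJ ▸ le_sup_left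
    have h := Module.length_le_of_surjective (Submodule.factor hJe) (Submodule.factor_surjective hJe)
    rw [hlenpow] at h
    refine ⟨(Nat.cast_le.2 (by omega)).trans h, fun heq => ?_, fun h' => absurd h' htame⟩
    rw [heq, Nat.cast_le] at h
    omega

end Groth.Agent.TameResidue
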