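import Mathlib.FieldTheory.PrimitiveElement
import Mathlib.FieldTheory.SeparableClosure
import Mathlib.RingTheory.Kaehler.Basic
import Mathlib.RingTheory.Unramified.Field

/-!
# Primitive elements for finite extensions with cyclic differentials
-/

set_option autoImplicit false
set_option linter.style.haveILetI false

universe u

open IntermediateField Polynomial

namespace Groth.Agent.TameResidue

variable {F E : Type u} [Field F] [Field E] [Algebra F E]

set_option backward.isDefEq.respectTransparency.types false in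
/-- The primitive element theorem for two elements one of which is separable. -/
theorem exists_adjoin_pair_eq [Infinite F] (α β : E) (hα : IsIntegral F α) (hβs : IsSeparable F β) :
    ∃ γ : E, F⟮α, β⟯ = F⟮γ⟯ := by
  have hβ := hβs.isIntegral
  let f := minpoly F α
  let g := minpoly F β
  let ιFE := algebraMap F E
  let ιEE' := algebraMap E (SplittingField (g.map ιFE))
  obtain ⟨c, hc⟩ := Field.primitive_element_inf_aux_exists_c (ιEE'.comp ιFE) (ιEE' α) (ιEE' β) f g
  let γ := α + c • β
  suffices β_in_Fγ : β ∈ F⟮γ⟯ by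
    use γ
    apply le_antisymm
    · rw [adjoin_le_iff]
      have α_in_Fγ : α ∈ F⟮γ⟯ := by
        rw [← add_sub_cancel_right α (c • β)]
        exact F⟮γ⟯.sub_mem (mem_adjoin_simple_self F γ) (F⟮γ⟯.toSubalgebra.smul_mem β_in_Fγ c)
      rintro x (rfl | rfl) <;> assumption
    · rw [adjoin_simple_le_iff]
      have α_in_Fαβ : α ∈ F⟮α, β⟯ := subset_adjoin F {α, β} (Set.mem_insert α {β})
      have β_in_Fαβ : β ∈ F⟮α, β⟯ := subset_adjoin F {α, β} (Set.mem_insert_of_mem α rfl)
      exact F⟮α, β⟯.add_mem α_in_Fαβ (F⟮α, β⟯.smul_mem β_in_Fαβ)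
  classical
  let p := EuclideanDomain.gcd ((f.map (algebraMap F F⟮γ⟯)).comp
    (C (AdjoinSimple.gen F γ) - (C ↑c : F⟮γ⟯[X]) * X)) (g.map (algebraMap F F⟮γ⟯))
  let h := EuclideanDomain.gcd ((f.map ιFE).comp (C γ - C (ιFE c) * X)) (g.map ιFE)
  have map_g_ne_zero : g.map ιFE ≠ 0 := map_ne_zero (minpoly.ne_zero hβ)
  have h_ne_zero : h ≠ 0 :=
    mt EuclideanDomain.gcd_eq_zero_iff.mp (not_and.mpr fun _ => map_g_ne_zero)
  suffices p_linear : p.map (algebraMap F⟮γ⟯ E) = C h.leadingCoeff * (X - C β) by
    have finale : β = algebraMap F⟮γ⟯ E (-p.coeff 0 / p.coeff 1) := by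
      simp [map_div₀, map_neg, ← coeff_map, p_linear,
        mul_sub, coeff_C, mul_div_cancel_left₀ β (mt leadingCoeff_eq_zero.mp h_ne_zero)]
    rw [finale]
    exact Subtype.mem (-p.coeff 0 / p.coeff 1)
  have h_sep : h.Separable := separable_gcd_right _ (.map hβs)
  have h_root : h.eval β = 0 := by
    apply eval_gcd_eq_zero
    · rw [eval_comp, eval_sub, eval_mul, eval_C, eval_C, eval_X, eval_map_algebraMap, ←
        Algebra.smul_def, add_sub_cancel_right, minpoly.aeval]
    · rw [eval_map_algebraMap, minpoly.aeval]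
  have h_splits : Splits (h.map ιEE') := by
    rw [← Polynomial.gcd_map]
    exact (SplittingField.splits _).of_dvd (map_ne_zero map_g_ne_zero)
      (EuclideanDomain.gcd_dvd_right _ _)
  have h_roots : ∀ x ∈ (h.map ιEE').roots, x = ιEE' β := by
    intro x hx
    rw [mem_roots_map h_ne_zero] at hx
    specialize hc (ιEE' γ - ιEE' (ιFE c) * x) (by
      have f_root := root_left_of_root_gcd hx
      rw [eval₂_comp, eval₂_sub, eval₂_mul, eval₂_C, eval₂_C, eval₂_X, eval₂_map] at f_root
      exact (mem_roots_map (minpoly.ne_zero hα)).mpr f_root)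
    specialize hc x (by
      rw [mem_roots_map (minpoly.ne_zero hβ), ← eval₂_map]
      exact root_right_of_root_gcd hx)
    by_contra a
    apply hc
    apply (div_eq_iff (sub_ne_zero.mpr a)).mpr
    simp only [γ, Algebra.smul_def, map_add, map_mul, RingHom.comp_apply]
    ring
  rw [← eq_X_sub_C_of_separable_of_root_eq h_sep h_root h_splits h_roots]
  trans EuclideanDomain.gcd (?_ : E[X]) (?_ : E[X])
  · dsimp only [γ]
    convert! (gcd_map (algebraMap F⟮γ⟯ E)).symm
  · simp only [Polynomial.map_comp, Polynomial.map_map, ← IsScalarTower.algebraMap_eq, Polynomial.map_sub,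
      map_C, AdjoinSimple.algebraMap_gen, Polynomial.map_mul, map_X]
    congr

/-- A finite extension whose differentials are generated by one element has a primitive element. -/
theorem exists_primitive [FiniteDimensional F E] (g : Ω[E⁄F]) (hg : Submodule.span E {g} = ⊤) :
    ∃ γ : E, F⟮γ⟯ = ⊤ := by
  rcases finite_or_infinite F with hF | hF
  · exact Field.exists_primitive_element_of_finite_bot F E
  -- a single element whose differential generates
  obtain ⟨θ, hθ⟩ : ∃ θ : E, Submodule.span E {KaehlerDifferential.D F E θ} = ⊤ := by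
    by_cases hg0 : g = 0
    · refine ⟨0, ?_⟩
      rwa [map_zero, ← hg0]
    obtain ⟨θ, hθ⟩ : ∃ θ, KaehlerDifferential.D F E θ ≠ 0 := by
      by_contra h
      push Not at h
      refine hg0 ((Submodule.mem_bot E).1 ?_)
      have hb := (KaehlerDifferential.span_range_derivation F E).ge (Submodule.mem_top (x := g))
      refine (Submodule.span_le.2 ?_ : _ ≤ (⊥ : Submodule E _)) hb
      rintro _ ⟨z, rfl⟩
      exact (Submodule.mem_bot E).2 (h z)
    obtain ⟨c, hc⟩ := Submodule.mem_span_singleton.1 (hg.ge (Submodule.mem_top (x := KaehlerDifferential.D F E θ)))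
    have hc0 : c ≠ 0 := by rintro rfl; exact hθ (by rw [← hc, zero_smul])
    refine ⟨θ, ?_⟩
    rw [← hc, Submodule.span_singleton_smul_eq hc0.isUnit, hg]
  let B := F⟮θ⟯
  haveI : Algebra.EssFiniteType B E := Algebra.EssFiniteType.of_comp F B E
  haveI : Algebra.FormallyUnramified B E := ⟨⟨fun a b => by
    have h0 : ∀ z : Ω[E⁄B], z = 0 := fun z => by
      obtain ⟨t, rfl⟩ :=
        (show Function.Surjective (KaehlerDifferential.map F B E E) from KaehlerDifferential.map_surjective F B E) z
      obtain ⟨d, rfl⟩ := Submodule.mem_span_singleton.1 (hθ.ge (Submodule.mem_top (x := t)))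
      rw [map_smul, KaehlerDifferential.map_D,
        show (algebraMap E E) θ = algebraMap B E ⟨θ, mem_adjoin_simple_self F θ⟩ from rfl,
        Derivation.map_algebraMap, smul_zero]
    rw [h0 a, h0 b]⟩⟩
  haveI : Algebra.IsSeparable B E := Algebra.FormallyUnramified.isSeparable B E
  let M := separableClosure F E
  haveI : Algebra.IsSeparable F M := separableClosure.isSeparable F E
  haveI : FiniteDimensional F M := inferInstance
  obtain ⟨β₀, hβ₀⟩ := Field.exists_primitive_element F M
  let β : E := (β₀ : E)
  have hβs : IsSeparable F β :=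
    (mem_separableClosure_iff (F := F) (E := E)).1 β₀.2
  obtain ⟨γ, hγ⟩ := exists_adjoin_pair_eq θ β (Algebra.IsIntegral.isIntegral θ) hβs
  refine ⟨γ, hγ.symm.trans (top_unique fun x _ => ?_)⟩
  let N : IntermediateField F E := F⟮θ, β⟯
  have hBN : B ≤ N := adjoin.mono F _ _ (by simp)
  have hMN : M ≤ N := by
    intro y hy
    have h := hβ₀.ge (mem_top (x := (⟨y, hy⟩ : M)))
    have h' : y ∈ (F⟮β₀⟯).map M.val := ⟨⟨y, hy⟩, h, rfl⟩
    rw [adjoin_map, Set.image_singleton] at h'
    exact adjoin.mono F _ _ (by simp [β]) h'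
  letI : Algebra B N := (inclusion hBN).toRingHom.toAlgebra
  haveI : IsScalarTower B N E := IsScalarTower.of_algebraMap_eq fun _ => rfl
  haveI : Algebra.IsSeparable N E := Algebra.isSeparable_tower_top_of_isSeparable B N E
  haveI : IsPurelyInseparable M E := separableClosure.isPurelyInseparable F E
  letI : Algebra M N := (inclusion hMN).toRingHom.toAlgebra
  haveI : IsScalarTower M N E := IsScalarTower.of_algebraMap_eq fun _ => rfl
  haveI : IsPurelyInseparable N E := IsPurelyInseparable.tower_top M N E
  obtain ⟨z, hz⟩ := IsPurelyInseparable.surjective_algebraMap_of_isSeparable N E x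
  exact hz ▸ z.2

end Groth.Agent.TameResidue
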